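import Mathlib

/-! Weak approximation for finitely many `ℤ`-valued valuation-like functions on a field. -/

set_option autoImplicit false

namespace Groth.Agent.Ord93

/-- The axioms of a discrete valuation, on nonzero elements, that we use. -/
structure IsVal {K : Type*} [Field K] (v : K → ℤ) : Prop where
  map_mul : ∀ a b, a ≠ 0 → b ≠ 0 → v (a * b) = v a + v b
  map_add : ∀ a b, a ≠ 0 → b ≠ 0 → v a < v b → a + b ≠ 0 ∧ v (a + b) = v a
  surj : ∀ n : ℤ, ∃ z, z ≠ 0 ∧ v z = n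

namespace IsVal

variable {K : Type*} [Field K] {v : K → ℤ} (hv : IsVal v)
include hv

lemma map_one : v 1 = 0 := by
  have h := hv.map_mul 1 1 one_ne_zero one_ne_zero
  rw [one_mul] at h
  omega

lemma map_pow {a : K} (ha : a ≠ 0) : ∀ N : ℕ, v (a ^ N) = N * v a
  | 0 => by simp [hv.map_one]
  | N + 1 => by
    rw [pow_succ, hv.map_mul _ _ (pow_ne_zero _ ha) ha, map_pow ha N]
    push_cast
    ring

lemma map_inv {a : K} (ha : a ≠ 0) : v a⁻¹ = - v a := by
  have h := hv.map_mul a a⁻¹ ha (inv_ne_zero ha)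
  rw [mul_inv_cancel₀ ha, hv.map_one] at h
  omega

lemma map_add' {a b : K} (ha : a ≠ 0) (hb : b ≠ 0) (h : v b < v a) :
    a + b ≠ 0 ∧ v (a + b) = v b := by
  rw [add_comm]
  exact hv.map_add b a hb ha h

lemma map_add_sum {ι : Type*} (s : Finset ι) (t : ι → K) {a : K} (ha : a ≠ 0)
    (h : ∀ i ∈ s, t i ≠ 0 ∧ v a < v (t i)) :
    a + ∑ i ∈ s, t i ≠ 0 ∧ v (a + ∑ i ∈ s, t i) = v a := by
  classical
  induction s using Finset.induction_on with
  | empty => simp [ha]
  | insert k s hk ih =>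
    obtain ⟨h1, h2⟩ := ih fun i hi => h i (Finset.mem_insert_of_mem hi)
    obtain ⟨h3, h4⟩ := h k (Finset.mem_insert_self k s)
    rw [Finset.sum_insert hk, show a + (t k + ∑ i ∈ s, t i) = (a + ∑ i ∈ s, t i) + t k by ring]
    rw [← h2] at h4
    obtain ⟨h5, h6⟩ := hv.map_add _ _ h1 h3 h4
    exact ⟨h5, h6.trans h2⟩

end IsVal

variable {K : Type*} [Field K] {ι : Type*} {v : ι → K → ℤ}

lemma exists_pos_neg (hv : ∀ i, IsVal (v i))
    (hsep : ∀ i j, i ≠ j → ∃ z, z ≠ 0 ∧ 0 < v i z ∧ v j z < 0) (i : ι) (S : Finset ι)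
    (hS : i ∉ S) : ∃ z, z ≠ 0 ∧ 0 < v i z ∧ ∀ j ∈ S, v j z < 0 := by
  classical
  induction S using Finset.induction_on with
  | empty =>
    obtain ⟨z, hz, hz1⟩ := (hv i).surj 1
    exact ⟨z, hz, by omega, by simp⟩
  | insert k S hk ih =>
    obtain ⟨z, hz, hzi, hzS⟩ := ih fun h => hS (Finset.mem_insert_of_mem h)
    by_cases hzk : v k z < 0
    · exact ⟨z, hz, hzi, fun j hj => (Finset.mem_insert.1 hj).elim (fun h => h ▸ hzk) (hzS j)⟩
    · obtain ⟨w, hw, hwi, hwk⟩ := hsep i k fun h => hS (h ▸ Finset.mem_insert_self k S)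
      obtain ⟨N, hN⟩ : ∃ N : ℕ, v i w < N ∧ ∀ j ∈ S, -v j w < (N : ℤ) := by
        refine ⟨(v i w).natAbs + (∑ j ∈ S, (v j w).natAbs) + 1, by omega, fun j hj => ?_⟩
        have := Finset.single_le_sum (f := fun j => (v j w).natAbs) (fun _ _ => Nat.zero_le _) hj
        omega
      have hzN := pow_ne_zero N hz
      have e1 : v i (z ^ N + w) = v i w ∧ z ^ N + w ≠ 0 := by
        have := (hv i).map_add' hzN hw (by
          rw [(hv i).map_pow hz]
          nlinarith [hN.1])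
        exact ⟨this.2, this.1⟩
      refine ⟨z ^ N + w, e1.2, by omega, fun j hj => ?_⟩
      rcases Finset.mem_insert.1 hj with rfl | hj
      · have := (hv j).map_add' hzN hw (by
          rw [(hv j).map_pow hz]
          nlinarith)
        omega
      · have h1 := hzS j hj
        have h2 := hN.2 j hj
        have := (hv j).map_add _ _ hzN hw (by rw [(hv j).map_pow hz]; nlinarith)
        rw [this.2, (hv j).map_pow hz]
        nlinarith [hN.1]

/-- Weak approximation: one can prescribe the values of finitely many separated valuations. -/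
theorem exists_prescribed [Finite ι] (hv : ∀ i, IsVal (v i))
    (hsep : ∀ i j, i ≠ j → ∃ z, z ≠ 0 ∧ 0 < v i z ∧ v j z < 0) (n : ι → ℤ) :
    ∃ f, f ≠ 0 ∧ ∀ i, v i f = n i := by
  classical
  cases nonempty_fintype ι
  rcases isEmpty_or_nonempty ι with hι | hι
  · exact ⟨1, one_ne_zero, fun i => hι.elim i⟩
  choose ϖ hϖ hϖn using fun i => (hv i).surj (n i)
  obtain ⟨M, hM, hM0⟩ : ∃ M : ℕ, (∀ i j, n j < M + v j (ϖ i)) ∧ 0 < M := by
    refine ⟨(∑ i, ∑ j, ((n j).natAbs + (v j (ϖ i)).natAbs)) + 1, fun i j => ?_, Nat.succ_pos _⟩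
    have h1 := Finset.single_le_sum (f := fun j => (n j).natAbs + (v j (ϖ i)).natAbs)
      (fun _ _ => Nat.zero_le _) (Finset.mem_univ j)
    have h2 := Finset.single_le_sum (f := fun i => ∑ j, ((n j).natAbs + (v j (ϖ i)).natAbs))
      (fun _ _ => Nat.zero_le _) (Finset.mem_univ i)
    omega
  have he : ∀ i, ∃ e : K, e ≠ 0 ∧ v i e = 0 ∧ ∀ j, j ≠ i → (M : ℤ) ≤ v j e := by
    intro i
    obtain ⟨z, hz, hzi, hzj⟩ := exists_pos_neg hv hsep i (Finset.univ.erase i) (by simp)
    have hzM := pow_ne_zero M hz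
    have h1 := (hv i).map_add 1 (z ^ M) one_ne_zero hzM (by
      rw [(hv i).map_one, (hv i).map_pow hz]
      positivity)
    refine ⟨(1 + z ^ M)⁻¹, inv_ne_zero h1.1, ?_, fun j hj => ?_⟩
    · rw [(hv i).map_inv h1.1, h1.2, (hv i).map_one, neg_zero]
    · have h3 := hzj j (by simp [hj])
      have h2 := (hv j).map_add' one_ne_zero hzM (by
        rw [(hv j).map_one, (hv j).map_pow hz]
        nlinarith)
      rw [(hv j).map_inv h1.1, h2.2, (hv j).map_pow hz]
      nlinarith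
  choose e he0 hei hej using he
  have key : ∀ j, (∑ i, e i * ϖ i) ≠ 0 ∧ v j (∑ i, e i * ϖ i) = n j := by
    intro j
    rw [← Finset.add_sum_erase _ _ (Finset.mem_univ j)]
    have hj : v j (e j * ϖ j) = n j := by rw [(hv j).map_mul _ _ (he0 j) (hϖ j), hei, hϖn]; omega
    obtain ⟨h1, h2⟩ := (hv j).map_add_sum (Finset.univ.erase j) (fun i => e i * ϖ i)
      (mul_ne_zero (he0 j) (hϖ j)) fun i hi => by
        refine ⟨mul_ne_zero (he0 i) (hϖ i), ?_⟩
        rw [hj, (hv j).map_mul _ _ (he0 i) (hϖ i)]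
        have := hej i j (Ne.symm (Finset.ne_of_mem_erase hi))
        have := hM i j
        omega
    exact ⟨h1, h2.trans hj⟩
  exact ⟨_, (key hι.some).1, fun i => (key i).2⟩

end Groth.Agent.Ord93
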