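import Groth.Agent.Ord93.Approx

/-! The order function of a discrete valuation ring on its fraction field. -/

set_option autoImplicit false

namespace Groth.Agent.Ord93

open IsLocalRing

variable (R : Type*) [CommRing R] [IsDomain R] [IsDiscreteValuationRing R]
  (K : Type*) [Field K] [Algebra R K] [IsFractionRing R K]

lemma exists_order_aux (x : K) (hx : x ≠ 0) :
    ∃ (n : ℤ) (u : Rˣ), x = algebraMap R K u *
      algebraMap R K (Classical.choose (IsDiscreteValuationRing.exists_irreducible R)) ^ n := by
  obtain ⟨n, u, h⟩ := IsDiscreteValuationRing.exists_units_eq_smul_zpow_of_irreducible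
    (Classical.choose_spec (IsDiscreteValuationRing.exists_irreducible R)) hx
  exact ⟨n, u, by rw [h, Units.smul_def, Algebra.smul_def]⟩

open Classical in
/-- The order of `x`; zero for `x = 0`. -/
noncomputable def order (x : K) : ℤ :=
  if hx : x = 0 then 0 else (exists_order_aux R K x hx).choose

/-- The uniformizer used to define `order`. -/
noncomputable def unif : R := Classical.choose (IsDiscreteValuationRing.exists_irreducible R)

lemma irreducible_unif : Irreducible (unif R) :=
  Classical.choose_spec (IsDiscreteValuationRing.exists_irreducible R)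

variable {R K}

lemma algebraMap_unif_ne_zero : algebraMap R K (unif R) ≠ 0 := by
  simpa using (irreducible_unif R).ne_zero

lemma exists_unit_mul_zpow_order {x : K} (hx : x ≠ 0) :
    ∃ u : Rˣ, x = algebraMap R K u * algebraMap R K (unif R) ^ order R K x := by
  classical
  rw [order, dif_neg hx]
  exact (exists_order_aux R K x hx).choose_spec

lemma zero_of_unit_eq {d : ℤ} {u : Rˣ} (h : algebraMap R K (unif R) ^ d = algebraMap R K u) :
    d = 0 := by
  obtain ⟨k, rfl | rfl⟩ := Int.eq_nat_or_neg d
  · rw [zpow_natCast, ← map_pow] at h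
    have hu : IsUnit (unif R ^ k) := (IsFractionRing.injective R K h) ▸ u.isUnit
    by_contra hk
    exact (irreducible_unif R).not_isUnit ((isUnit_pow_iff (by omega)).1 hu)
  · rw [zpow_neg, zpow_natCast, ← map_pow, inv_eq_iff_eq_inv, ← map_units_inv] at h
    have hu : IsUnit (unif R ^ k) := (IsFractionRing.injective R K h) ▸ (u⁻¹).isUnit
    by_contra hk
    exact (irreducible_unif R).not_isUnit ((isUnit_pow_iff (by omega)).1 hu)

lemma order_eq {x : K} {u : Rˣ} {n : ℤ}
    (h : x = algebraMap R K u * algebraMap R K (unif R) ^ n) : order R K x = n := by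
  have hp := algebraMap_unif_ne_zero (R := R) (K := K)
  have hu : algebraMap R K u ≠ 0 := ((u.isUnit).map (algebraMap R K)).ne_zero
  have hx : x ≠ 0 := h ▸ mul_ne_zero hu (zpow_ne_zero _ hp)
  obtain ⟨w, hw⟩ := exists_unit_mul_zpow_order (R := R) hx
  have hw0 : algebraMap R K w ≠ 0 := ((w.isUnit).map (algebraMap R K)).ne_zero
  have : order R K x - n = 0 := by
    apply zero_of_unit_eq (R := R) (K := K) (u := u * w⁻¹)
    rw [zpow_sub₀ hp, Units.val_mul, map_mul, map_units_inv, div_eq_iff (zpow_ne_zero _ hp)]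
    field_simp
    rw [mul_comm, ← hw]
    exact h
  omega

lemma order_mul {a b : K} (ha : a ≠ 0) (hb : b ≠ 0) :
    order R K (a * b) = order R K a + order R K b := by
  obtain ⟨u, hu⟩ := exists_unit_mul_zpow_order (R := R) ha
  obtain ⟨w, hw⟩ := exists_unit_mul_zpow_order (R := R) hb
  refine order_eq (u := u * w) ?_
  conv_lhs => rw [hu, hw]
  rw [Units.val_mul, map_mul, zpow_add₀ (algebraMap_unif_ne_zero (R := R) (K := K))]
  ring

lemma order_add {a b : K} (ha : a ≠ 0) (hb : b ≠ 0) (h : order R K a < order R K b) :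
    a + b ≠ 0 ∧ order R K (a + b) = order R K a := by
  obtain ⟨u, hu⟩ := exists_unit_mul_zpow_order (R := R) ha
  obtain ⟨w, hw⟩ := exists_unit_mul_zpow_order (R := R) hb
  obtain ⟨d, hd⟩ : ∃ d : ℕ, order R K b = order R K a + (d + 1 : ℕ) :=
    ⟨(order R K b - order R K a - 1).toNat, by omega⟩
  have hunit : IsUnit ((u : R) + w * unif R ^ (d + 1)) := by
    by_contra hn
    have h1 : (u : R) + w * unif R ^ (d + 1) ∈ maximalIdeal R := hn
    have h2 : (w : R) * unif R ^ (d + 1) ∈ maximalIdeal R :=
      Ideal.mul_mem_left _ _ (Ideal.pow_mem_of_mem _ (irreducible_unif R).not_isUnit _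
        (Nat.succ_pos d))
    have h3 := Ideal.sub_mem _ h1 h2
    rw [add_sub_cancel_right] at h3
    exact h3 u.isUnit
  obtain ⟨t, ht⟩ := hunit
  have key : a + b = algebraMap R K t * algebraMap R K (unif R) ^ order R K a := by
    conv_lhs => rw [hu, hw, hd, zpow_add₀ (algebraMap_unif_ne_zero (R := R) (K := K)), zpow_natCast]
    rw [ht, map_add, map_mul, map_pow]
    ring
  refine ⟨?_, order_eq key⟩
  rw [key]
  exact mul_ne_zero (t.isUnit.map (algebraMap R K)).ne_zero
    (zpow_ne_zero _ (algebraMap_unif_ne_zero (R := R) (K := K)))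

variable (R K)

lemma isVal_order : IsVal (order R K) where
  map_mul _ _ := order_mul
  map_add _ _ := order_add
  surj n := ⟨algebraMap R K (unif R) ^ n, zpow_ne_zero _ algebraMap_unif_ne_zero,
    order_eq (u := 1) (by simp)⟩

variable {R K}

lemma order_nonneg_of_mem {a : R} (ha : algebraMap R K a ≠ 0) :
    0 ≤ order R K (algebraMap R K a) := by
  obtain ⟨n, u, rfl⟩ := IsDiscreteValuationRing.eq_unit_mul_pow_irreducible (x := a)
    (fun h => ha (by rw [h, map_zero])) (irreducible_unif R)
  rw [order_eq (u := u) (n := (n : ℤ)) (by rw [map_mul, map_pow, zpow_natCast])]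
  exact Int.natCast_nonneg n

lemma order_pos_of_mem {a : R} (ha : algebraMap R K a ≠ 0) (hu : ¬ IsUnit a) :
    0 < order R K (algebraMap R K a) := by
  obtain ⟨n, u, rfl⟩ := IsDiscreteValuationRing.eq_unit_mul_pow_irreducible (x := a)
    (fun h => ha (by rw [h, map_zero])) (irreducible_unif R)
  rw [order_eq (u := u) (n := (n : ℤ)) (by rw [map_mul, map_pow, zpow_natCast])]
  rcases Nat.eq_zero_or_pos n with rfl | hn
  · exact absurd (by simp) hu
  · exact_mod_cast hn

lemma order_eq_zero_of_isUnit {a : R} (hu : IsUnit a) : order R K (algebraMap R K a) = 0 := by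
  obtain ⟨u, rfl⟩ := hu
  exact order_eq (u := u) (by simp)

lemma exists_mem_of_order_nonneg {x : K} (hx : x ≠ 0) (h : 0 ≤ order R K x) :
    ∃ a : R, algebraMap R K a = x := by
  obtain ⟨u, hu⟩ := exists_unit_mul_zpow_order (R := R) hx
  refine ⟨u * unif R ^ (order R K x).toNat, ?_⟩
  conv_rhs => rw [hu, ← Int.toNat_of_nonneg h, zpow_natCast]
  rw [map_mul, map_pow]

end Groth.Agent.Ord93
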