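import Groth.Agent.Ord93.DVR
import Groth.Agent.Div89.Ref1.Ord

/-! Orders at distinct codimension one points of a separated integral scheme can be separated. -/

set_option autoImplicit false
set_option linter.style.haveILetI false

noncomputable section

universe u

open CategoryTheory AlgebraicGeometry IsLocalRing

namespace Groth.Agent.Ord93

lemma isDVR_of_normal_dim_one (R : Type u) [CommRing R] [IsDomain R] [IsLocalRing R]
    [IsNoetherianRing R] [IsIntegrallyClosed R] (hd : ringKrullDim R = 1) :
    IsDiscreteValuationRing R := by
  haveI := CAlg1.regular_of_isIntegrallyClosed_dim_le_one _ hd.le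
  haveI := FlatMor68.DedekindFlat.isPrincipalIdealRing_of_regular R hd.le
  refine { not_a_field' := fun h => ?_ }
  have h0 : ringKrullDim R = 0 :=
    ringKrullDim_eq_zero_of_isField (IsLocalRing.isField_iff_maximalIdeal_eq.2 h)
  rw [hd] at h0
  exact absurd h0 one_ne_zero

variable {X : Scheme.{u}} [IsIntegral X]

instance isDominant_Spec_generic (y : X) : IsDominant (Spec.map (X.presheaf.stalkSpecializes
    ((genericPoint_spec X).specializes (Set.mem_univ y)))) := by
  constructor
  apply (PrimeSpectrum.denseRange_comap_iff_ker_le_nilRadical _).2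
  have h : Function.Injective (algebraMap (X.presheaf.stalk y) X.functionField) :=
    IsFractionRing.injective _ _
  intro a ha
  have h0 : algebraMap (X.presheaf.stalk y) X.functionField a = 0 := ha
  rw [h (h0.trans (map_zero _).symm)]
  exact Ideal.zero_mem _

/-- If the local ring at `x` lies in the local ring at `y`, compatibly with the maximal ideals, then
`x = y`. -/
theorem eq_of_local_le [X.IsSeparated] {x y : X}
    (φ : X.presheaf.stalk x ⟶ X.presheaf.stalk y) (hloc : IsLocalHom φ.hom)
    (hφ : φ ≫ X.presheaf.stalkSpecializes ((genericPoint_spec X).specializes (Set.mem_univ y)) =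
      X.presheaf.stalkSpecializes ((genericPoint_spec X).specializes (Set.mem_univ x))) :
    x = y := by
  have h : Spec.map φ ≫ X.fromSpecStalk x = X.fromSpecStalk y := by
    apply ext_of_isDominant (Spec.map (X.presheaf.stalkSpecializes
      ((genericPoint_spec X).specializes (Set.mem_univ y))))
    rw [← Category.assoc, ← Spec.map_comp, hφ, Scheme.SpecMap_stalkSpecializes_fromSpecStalk,
      Scheme.SpecMap_stalkSpecializes_fromSpecStalk]
  have h2 := congrArg (fun f : Spec _ ⟶ X => f (closedPoint (X.presheaf.stalk y))) h
  haveI := hloc
  have h3 : X.fromSpecStalk x (Spec.map φ (closedPoint (X.presheaf.stalk y))) =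
      X.fromSpecStalk y (closedPoint (X.presheaf.stalk y)) := h2
  rw [show Spec.map φ (closedPoint (X.presheaf.stalk y)) = closedPoint (X.presheaf.stalk x) from
    IsLocalRing.comap_closedPoint φ.hom] at h3
  exact (Scheme.fromSpecStalk_closedPoint (x := x)).symm.trans
    (h3.trans Scheme.fromSpecStalk_closedPoint)

/-- Orders at two distinct points with discrete valuation rings can be separated. -/
theorem exists_pos_neg_order [X.IsSeparated] {x y : X} (hxy : x ≠ y)
    [IsDiscreteValuationRing (X.presheaf.stalk x)] [IsDiscreteValuationRing (X.presheaf.stalk y)] :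
    ∃ z : X.functionField, z ≠ 0 ∧ 0 < order (X.presheaf.stalk x) X.functionField z ∧
      order (X.presheaf.stalk y) X.functionField z < 0 := by
  set vx := order (X.presheaf.stalk x) X.functionField with hvx
  set vy := order (X.presheaf.stalk y) X.functionField with hvy
  have hx : IsVal vx := isVal_order _ _
  have hy : IsVal vy := isVal_order _ _
  by_contra hne
  push Not at hne
  have hA : ∀ z, z ≠ 0 → 0 ≤ vx z → 0 ≤ vy z := by
    intro z hz h0
    rcases h0.lt_or_eq with h | h
    · exact hne z hz h
    · by_contra hneg
      obtain ⟨p, hp, hp1⟩ := hx.surj 1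
      set N := (vy p).natAbs + 1 with hN
      have := hne (z ^ N * p) (mul_ne_zero (pow_ne_zero _ hz) hp)
        (by rw [hx.map_mul _ _ (pow_ne_zero _ hz) hp, hx.map_pow hz, ← h]; simp [hp1])
      rw [hy.map_mul _ _ (pow_ne_zero _ hz) hp, hy.map_pow hz] at this
      push Not at hneg
      have h1 : (N : ℤ) * vy z ≤ -(N : ℤ) := by nlinarith
      omega
  have hB : ∀ z, z ≠ 0 → 0 < vx z → 0 < vy z := by
    intro z hz h0
    rcases (hne z hz h0).lt_or_eq with h | h
    · exact h
    · exfalso
      obtain ⟨w, hw, hw1⟩ := hy.surj (-1)
      set N := (vx w).natAbs with hN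
      have := hA (w * z ^ N) (mul_ne_zero hw (pow_ne_zero _ hz))
        (by rw [hx.map_mul _ _ hw (pow_ne_zero _ hz), hx.map_pow hz]
            have h1 : (N : ℤ) ≤ (N : ℤ) * vx z := by nlinarith
            omega)
      rw [hy.map_mul _ _ hw (pow_ne_zero _ hz), hy.map_pow hz, ← h, hw1] at this
      simp at this
  have hinjy : Function.Injective (algebraMap (X.presheaf.stalk y) X.functionField) :=
    IsFractionRing.injective _ _
  have hinjx : Function.Injective (algebraMap (X.presheaf.stalk x) X.functionField) :=
    IsFractionRing.injective _ _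
  have hex : ∀ a : X.presheaf.stalk x, ∃ b : X.presheaf.stalk y,
      algebraMap (X.presheaf.stalk y) X.functionField b =
        algebraMap (X.presheaf.stalk x) X.functionField a := by
    intro a
    by_cases ha : algebraMap (X.presheaf.stalk x) X.functionField a = 0
    · exact ⟨0, by rw [map_zero, ha]⟩
    · exact exists_mem_of_order_nonneg ha (hA _ ha (order_nonneg_of_mem ha))
  choose g hg using hex
  let φ : X.presheaf.stalk x →+* X.presheaf.stalk y :=
    { toFun := g
      map_one' := hinjy (by rw [hg, map_one, map_one])
      map_mul' := fun a b => hinjy (by rw [map_mul, hg, hg, hg, map_mul])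
      map_zero' := hinjy (by rw [hg, map_zero, map_zero])
      map_add' := fun a b => hinjy (by rw [map_add, hg, hg, hg, map_add]) }
  refine hxy (eq_of_local_le (CommRingCat.ofHom φ) ⟨fun a ha => ?_⟩ ?_)
  · by_contra hu
    by_cases ha0 : algebraMap (X.presheaf.stalk x) X.functionField a = 0
    · have ha' : a = 0 := hinjx (by rw [ha0, map_zero])
      subst ha'
      exact not_isUnit_zero (M₀ := X.presheaf.stalk y) (by simpa using ha)
    · have h1 := hB _ ha0 (order_pos_of_mem ha0 hu)
      rw [← hg a] at h1
      have h2 := order_eq_zero_of_isUnit (K := X.functionField) (show IsUnit (g a) from ha)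
      exact absurd h2 h1.ne'
  · ext a
    exact hg a

end Groth.Agent.Ord93
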